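import Groth.Agent.EGA43.Unibranch.Open
import Groth.Agent.EGA43.Chevalley.Unibranch
import Groth.Agent.FEtFF.NormalGeomUnibranch
import Groth.Agent.CAlgH3.RegularLocal
import Groth.Agent.VarietyLib.SmoothStalk
import Mathlib.AlgebraicGeometry.Morphisms.QuasiFinite
import Mathlib.Topology.DiscreteSubset

/-!
# Lifting generizations at points over normal points
-/

set_option autoImplicit false
set_option backward.isDefEq.respectTransparency false

universe u

open CategoryTheory CategoryTheory.Limits AlgebraicGeometry TopologicalSpace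

namespace Groth.Agent.Models7.NodePreimage

open FlatMorWeight (IsMaximalPt)

/-- A normal point of a scheme. -/
def NormalAt {X : Scheme.{u}} (x : X) : Prop :=
  IsDomain (X.presheaf.stalk x) ∧ IsIntegrallyClosed (X.presheaf.stalk x)

theorem normalAt_of_regular {X : Scheme.{u}} (x : X) (h : IsRegularLocalRing (X.presheaf.stalk x)) : NormalAt x :=
  ⟨CAlgH3.isDomain_of_isRegularLocalRing _, CAlgH3.isIntegrallyClosed_of_regular _⟩

theorem NormalAt.isUnibranch {X : Scheme.{u}} {x : X} (h : NormalAt x) : CAlg2.IsUnibranch (X.presheaf.stalk x) := by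
  haveI := h.1
  haveI := h.2
  exact (FEtFF.isGeomUnibranch_of_normal _).1

theorem NormalAt.of_opens {X : Scheme.{u}} {U : X.Opens} {x : U} (h : NormalAt (x : X)) :
    NormalAt (X := U.toScheme) x := by
  haveI := h.1
  haveI := h.2
  let e : (X.presheaf.stalk (x : X)) ≃+* U.toScheme.presheaf.stalk x :=
    (U.stalkIso x).symm.commRingCatIsoToRingEquiv
  exact ⟨e.symm.injective.isDomain e.symm.toRingHom, IsIntegrallyClosed.of_equiv e⟩

/-- A locally quasi-finite morphism which carries maximal points near `v` to maximal points lifts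
generizations at `v` when both `v` and its image are normal points. -/
theorem exists_generization {V U : Scheme.{u}} [IsLocallyNoetherian V] [IsLocallyNoetherian U] (ψ : V ⟶ U)
    [LocallyOfFiniteType ψ] [LocallyQuasiFinite ψ] (v : V) (hv : NormalAt v) (hu : NormalAt (ψ v))
    (hmax : ∀ ζ : V, IsMaximalPt ζ → ζ ⤳ v → IsMaximalPt (ψ ζ)) {u' : U} (h : u' ⤳ ψ v) :
    ∃ v' : V, v' ⤳ v ∧ ψ v' = u' := by
  obtain ⟨W, hvW, hW⟩ := EGA43.Chevalley.exists_irreducible_nhd hv.isUnibranch
  obtain ⟨U₁, huU₁, hU₁⟩ := EGA43.Chevalley.exists_irreducible_nhd hu.isUnibranch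
  let W' : V.Opens := W ⊓ ψ ⁻¹ᵁ U₁
  have hvW' : v ∈ W' := ⟨hvW, huU₁⟩
  haveI : IrreducibleSpace W' := by
    haveI := hW
    have hpre : IsPreirreducible (W' : Set V) :=
      (isPreirreducible_iff_preirreducibleSpace.2 (inferInstance : PreirreducibleSpace W)).open_subset W'.2
        inf_le_left
    exact { toPreirreducibleSpace := isPreirreducible_iff_preirreducibleSpace.1 hpre
            toNonempty := ⟨⟨v, hvW'⟩⟩ }
  let r := ψ.resLE U₁ W' inf_le_right
  let ζ : W'.toScheme := genericPoint W'.toScheme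
  have hζv : ζ.1 ⤳ v := (genericPoint_specializes (α := W'.toScheme) ⟨v, hvW'⟩).map W'.ι.continuous
  have hζ : IsMaximalPt ζ.1 := by
    intro z hz
    have hzW : z ∈ W' := hz.mem_open W'.isOpen ζ.2
    exact (((genericPoint_specializes (α := W'.toScheme) ⟨z, hzW⟩).map W'.ι.continuous).antisymm hz).eq.symm
  have hr : ∀ w : W'.toScheme, (r w).1 = ψ w.1 := fun w => by
    have := congrArg (fun k => k.base w) (ψ.resLE_comp_ι (U := U₁) (V := W') inf_le_right)
    exact this
  have hgen : r ζ = genericPoint U₁.toScheme := by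
    haveI := hU₁
    refine Subtype.ext ((hr ζ).trans ?_)
    refine (hmax _ hζ hζv _ ?_).symm
    have := (genericPoint_specializes (r ζ)).map U₁.ι.continuous
    rwa [show U₁.ι (r ζ) = ψ ζ.1 from hr ζ] at this
  haveI := hU₁
  haveI : IsDominant r := by
    refine ⟨dense_iff_closure_eq.2 (Set.eq_univ_of_univ_subset ?_)⟩
    rw [← genericPoint_closure, ← hgen]
    exact closure_mono (Set.singleton_subset_iff.2 ⟨_, rfl⟩)
  haveI : IrreducibleSpace U₁.toScheme := hU₁
  have hy : CAlg2.IsUnibranch (U₁.toScheme.presheaf.stalk (r ⟨v, hvW'⟩)) := by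
    refine NormalAt.isUnibranch (NormalAt.of_opens ?_)
    rw [hr]
    exact hu
  have hu'U : u' ∈ U₁ := h.mem_open U₁.isOpen huU₁
  obtain ⟨w, hw, hwu⟩ := EGA43.Unibranch.exists_generization_of_isUnibranch r ⟨v, hvW'⟩ hy
    (y' := ⟨u', hu'U⟩) (U₁.ι.isOpenEmbedding.isInducing.specializes_iff.1 (by
      show u' ⤳ U₁.ι (r ⟨v, hvW'⟩)
      rw [show U₁.ι (r ⟨v, hvW'⟩) = ψ v from hr _]
      exact h))
  exact ⟨w.1, hw.map W'.ι.continuous, (hr w).symm.trans (congrArg Subtype.val hwu)⟩

/-- The special fibre of a smooth morphism has one branch through each point. -/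
theorem exists_branch {X S : Scheme.{u}} (q : X ⟶ S) [Smooth q] (v : X) :
    ∃ ζ : X, q ζ = q v ∧ ∀ w, w ⤳ v → q w = q v → ζ ⤳ w := by
  let s := q v
  haveI : Smooth (q.fiberToSpecResidueField s) := MorphismProperty.pullback_snd _ _ ‹_›
  have hreg : IsRegularLocalRing ((q.fiber s).presheaf.stalk (q.asFiber v)) :=
    VarietyLib.isRegularLocalRing_stalk_of_smooth (S.residueField s) (q.fiber s) (q.fiberToSpecResidueField s) _
  obtain ⟨ζ', -, hζ'⟩ := EGA43.Chevalley.exists_forall_specializes (normalAt_of_regular _ hreg).isUnibranch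
  refine ⟨q.fiberι s ζ', (q.range_fiberι s).le ⟨_, rfl⟩, fun w hw hws => ?_⟩
  obtain ⟨w', rfl⟩ := (q.range_fiberι s).ge hws
  refine (hζ' w' ?_).map (q.fiberι s).continuous
  refine (q.fiberι s).isEmbedding.isInducing.specializes_iff.1 ?_
  rwa [q.fiberι_asFiber]

/-- Generizations in the fibre of a locally quasi-finite morphism are trivial. -/
theorem eq_of_specializes {X Y : Scheme.{u}} (e : X ⟶ Y) [LocallyQuasiFinite e] {a b : X}
    (h : a ⤳ b) (he : e a = e b) : a = b :=
  (e.isDiscrete_preimage_singleton (e b)).eq_of_specializes h he rfl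

end Groth.Agent.Models7.NodePreimage
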