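import Groth.Agent.Models7.NodePreimage.Points
import Groth.Agent.Models7.NodePreimage.Local
import Groth.Agent.Et18.EtaleLocalRing
import Groth.Agent.CurvesLib24.Basic
import Groth.Agent.SmoothLib.StalkCrit
import Groth.Prelude.Def_DualGr

/-!
# Charts of a nodal curve and its points
-/

set_option autoImplicit false
set_option backward.isDefEq.respectTransparency false

universe u

open CategoryTheory CategoryTheory.Limits AlgebraicGeometry

namespace Groth.Agent.Models7.NodePreimage

/-- If a chart is étale over a basic open which is smooth over the base, the point is a smooth point. -/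
theorem notMem_nonsmoothPts {R N A : Type u} [CommRing R] [CommRing N] [CommRing A] {Y U : Scheme.{u}}
    (q : Y ⟶ Spec (CommRingCat.of R)) [LocallyOfFinitePresentation q] (e : U ⟶ Y) [Etale e]
    (g : U ⟶ Spec (CommRingCat.of N)) [Etale g] (φ : R →+* N)
    (hcomm : g ≫ Spec.map (CommRingCat.ofHom φ) = e ≫ q) (f : N) [Algebra N A] [IsLocalization.Away f A]
    (hsm : ((algebraMap N A).comp φ).Smooth) (u : U) (hf : f ∉ (g u).asIdeal) :
    e u ∉ DualGr.nonsmoothPts q := by
  let jA := Spec.map (CommRingCat.ofHom (algebraMap N A))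
  haveI : IsOpenImmersion jA := IsOpenImmersion.of_isLocalization f
  have hmem : g u ∈ Set.range jA := by
    show g u ∈ Set.range (PrimeSpectrum.comap (algebraMap N A))
    rw [PrimeSpectrum.localization_away_comap_range A f]
    exact hf
  obtain ⟨a, ha⟩ := hmem
  obtain ⟨z, hz, -⟩ := Scheme.Pullback.exists_preimage_pullback (f := g) (g := jA) u a ha.symm
  let e' := pullback.fst g jA ≫ e
  haveI : Etale (pullback.fst g jA) := MorphismProperty.pullback_fst _ _ inferInstance
  haveI : Etale e' := inferInstanceAs (Etale (pullback.fst g jA ≫ e))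
  haveI : Etale (pullback.snd g jA) := MorphismProperty.pullback_snd _ _ inferInstance
  have hsm' : Smooth (e' ≫ q) := by
    haveI : Smooth (Spec.map (CommRingCat.ofHom ((algebraMap N A).comp φ))) :=
      (HasRingHomProperty.Spec_iff (P := @Smooth)).2 hsm
    rw [Category.assoc, ← hcomm, ← Category.assoc, pullback.condition, Category.assoc, ← Spec.map_comp,
      ← CommRingCat.ofHom_comp]
    infer_instance
  let W : Y.Opens := ⟨Set.range e', e'.isOpenMap.isOpen_range⟩
  let e'' := IsOpenImmersion.lift W.ι e' (by rw [Scheme.Opens.range_ι]; rfl)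
  have he'' : e'' ≫ W.ι = e' := IsOpenImmersion.lift_fac ..
  haveI : Etale e'' := by
    haveI : Etale (e'' ≫ W.ι) := by rw [he'']; infer_instance
    exact Etale.of_comp e'' W.ι
  haveI : Surjective e'' := by
    refine ⟨fun w => ?_⟩
    obtain ⟨t, ht⟩ : (W.ι w) ∈ Set.range e' := w.2
    refine ⟨t, W.ι.isOpenEmbedding.injective ?_⟩
    rw [← ht, ← he'']
    rfl
  haveI : Smooth (W.ι ≫ q) := AlgSpLib.smooth_of_comp_fppf e'' (W.ι ≫ q) (by
    rw [← Category.assoc, he'']; exact hsm')
  have hu : e u ∈ W := ⟨z, by show e (pullback.fst g jA z) = e u; rw [hz]⟩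
  exact not_not_intro (SmoothLib.formallySmooth_stalkMap_of_nhd q hu)

/-- The prime spectrum of a normal domain has normal points. -/
theorem normalAt_spec (N : Type u) [CommRing N] [IsDomain N] [IsIntegrallyClosed N]
    (z : Spec (CommRingCat.of N)) : NormalAt z := by
  let P := (z : PrimeSpectrum N).asIdeal
  letI : Algebra N ((Spec (CommRingCat.of N)).presheaf.stalk z) := StructureSheaf.stalkAlgebra (R := N) z
  haveI : IsLocalization.AtPrime ((Spec (CommRingCat.of N)).presheaf.stalk z) P :=
    StructureSheaf.IsLocalization.to_stalk N z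
  exact ⟨IsLocalization.isDomain_of_atPrime ((Spec (CommRingCat.of N)).presheaf.stalk z) P,
    isIntegrallyClosed_of_isLocalization _ P.primeCompl P.primeCompl_le_nonZeroDivisors⟩

/-- Points of a pullback. -/
theorem exists_preimage_of_isPullback {X Y Z T : Scheme.{u}} {i : X ⟶ Y} {f : X ⟶ Z} {q : Y ⟶ T} {j : Z ⟶ T}
    (h : IsPullback i f q j) (y : Y) (z : Z) (he : q y = j z) : ∃ x : X, i x = y ∧ f x = z := by
  obtain ⟨w, hw1, hw2⟩ := Scheme.Pullback.exists_preimage_pullback (f := q) (g := j) y z he
  refine ⟨h.isoPullback.inv w, ?_, ?_⟩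
  · rw [← hw1, ← h.isoPullback_inv_fst]; rfl
  · rw [← hw2, ← h.isoPullback_inv_snd]; rfl

/-- A finite fibre is made of quasi-finite points. -/
theorem quasiFiniteAt_of_finite {X Y : Scheme.{u}} (φ : X ⟶ Y) [LocallyOfFiniteType φ] (x : X)
    (h : (φ.base ⁻¹' {φ x}).Finite) : φ.QuasiFiniteAt x := by
  rw [Scheme.Hom.quasiFiniteAt_iff_isOpen_singleton_asFiber]
  haveI : LocallyOfFiniteType (φ.fiberToSpecResidueField (φ x)) :=
    MorphismProperty.pullback_snd _ _ ‹_›
  haveI : JacobsonSpace ↥(φ.fiber (φ x)) :=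
    LocallyOfFiniteType.jacobsonSpace (φ.fiberToSpecResidueField (φ x))
  haveI : Finite ↥(φ.fiber (φ x)) := by
    haveI : Finite ↑(φ.base ⁻¹' {φ x}) := h.to_subtype
    exact Finite.of_equiv _ (φ.fiberHomeo (φ x)).symm.toEquiv
  exact isOpen_discrete _

/-- A finite morphism of one-dimensional integral schemes hits the generic point. -/
theorem map_genericPoint {X Y : Scheme.{u}} [IsIntegral X] [IsIntegral Y] (hX : topologicalKrullDim X = 1)
    (hY : topologicalKrullDim Y ≤ 1) (f : X ⟶ Y) [IsFinite f] : f (genericPoint X) = genericPoint Y := by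
  refine CurvesLib24.map_genericPoint_of_nontrivial hY f ?_
  by_contra hnc
  rw [Set.not_nontrivial_iff] at hnc
  refine CurvesLib24.not_isClosed_genericPoint hX ?_
  have huniv : f ⁻¹' {f (genericPoint X)} = Set.univ :=
    Set.eq_univ_of_forall fun a => hnc ⟨a, rfl⟩ ⟨_, rfl⟩
  have hd := f.isDiscrete_preimage_singleton (f (genericPoint X))
  rw [huniv] at hd
  haveI : DiscreteTopology X := isDiscrete_univ_iff.1 hd
  exact isClosed_discrete _

end Groth.Agent.Models7.NodePreimage
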