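import Groth.Agent.Models7.NodePreimage.Smooth
import Groth.Prelude.Def_Curve
import Groth.Agent.S2227
import Groth.Agent.EtCard.Card
import Groth.Agent.NeronLib.Regular
import Groth.Agent.S10669
import Mathlib.AlgebraicGeometry.Morphisms.UniversallyOpen

/-!
# Preimages of nodes under quasi-finite maps of nodal models
-/

set_option autoImplicit false
set_option backward.isDefEq.respectTransparency false
set_option linter.style.haveILetI false

universe u

open CategoryTheory CategoryTheory.Limits AlgebraicGeometry SpinCurv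

namespace Groth.Agent.Models7.NodePreimage

open FlatMorWeight (IsMaximalPt)

variable {R : Type u} [CommRing R] [IsDomain R] [IsDiscreteValuationRing R]

theorem isOpenImmersion_jK : IsOpenImmersion (Spec.map (CommRingCat.ofHom (algebraMap R (FractionRing R)))) := by
  obtain ⟨ϖ, hϖ⟩ := IsDiscreteValuationRing.exists_irreducible R
  haveI := S10669.isLocalization_away_frac hϖ
  exact IsOpenImmersion.of_isLocalization ϖ

/-- The generic point of the base. -/
noncomputable def η₀ : ↥(Spec (CommRingCat.of R)) := (Spec.map (CommRingCat.ofHom (algebraMap R (FractionRing R)))) (IsLocalRing.closedPoint (FractionRing R))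

theorem η₀_asIdeal : (η₀ (R := R)).asIdeal = ⊥ := by
  show (IsLocalRing.maximalIdeal (FractionRing R)).comap (algebraMap R (FractionRing R)) = ⊥
  rw [IsLocalRing.maximalIdeal_eq_bot, ← RingHom.ker_eq_comap_bot]
  exact (RingHom.injective_iff_ker_eq_bot _).1 (IsFractionRing.injective R _)

theorem η₀_specializes (s : ↥(Spec (CommRingCat.of R))) : η₀ ⤳ s :=
  (PrimeSpectrum.le_iff_specializes _ _).1 (show (η₀ (R := R)).asIdeal ≤ s.asIdeal by rw [η₀_asIdeal]; exact bot_le)

theorem eq_η₀ {s : ↥(Spec (CommRingCat.of R))} (h : s ⤳ η₀) : s = η₀ :=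
  (h.antisymm (η₀_specializes s)).eq

/-- A maximal point of a flat scheme over the base lies over the generic point. -/
theorem eq_η₀_of_isMaximalPt {V : Scheme.{u}} (q : V ⟶ Spec (CommRingCat.of R)) [Flat q] {ζ : V} (h : IsMaximalPt ζ) : q ζ = η₀ := by
  obtain ⟨z, hz, hzη⟩ := (Flat.generalizingMap q) (η₀_specializes (q ζ))
  rw [← h z hz]; exact hzη

/-- Points over the closed point. -/
theorem comap_eq_maximal {N : Type u} [CommRing N] (φ : R →+* N) {ϖ : R} (hϖ : Irreducible ϖ) (Q : Ideal N)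
    [Q.IsPrime] (h : φ ϖ ∈ Q) : Q.comap φ = IsLocalRing.maximalIdeal R := by
  refine ((IsLocalRing.maximalIdeal.isMaximal R).eq_of_le (Ideal.IsPrime.ne_top (Ideal.IsPrime.comap φ)) ?_).symm
  rw [hϖ.maximalIdeal_eq, Ideal.span_le, Set.singleton_subset_iff]
  exact h

/-- At a prime containing the annihilators of two elements with product zero the stalk is no domain. -/
theorem not_isDomain_stalk {N : Type u} [CommRing N] (Q : PrimeSpectrum N) (a b : N) (hab : a * b = 0)
    (ha : ∀ s, s * a = 0 → s ∈ Q.asIdeal) (hb : ∀ s, s * b = 0 → s ∈ Q.asIdeal) :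
    ¬ IsDomain ((Spec (CommRingCat.of N)).presheaf.stalk Q) := by
  intro h
  letI : Algebra N ((Spec (CommRingCat.of N)).presheaf.stalk Q) := StructureSheaf.stalkAlgebra (R := N) _
  haveI : IsLocalization.AtPrime ((Spec (CommRingCat.of N)).presheaf.stalk Q) Q.asIdeal :=
    StructureSheaf.IsLocalization.to_stalk N Q
  let ι := algebraMap N ((Spec (CommRingCat.of N)).presheaf.stalk Q)
  have h3 : ι a * ι b = 0 := by rw [← map_mul, hab, map_zero]
  rcases mul_eq_zero.1 h3 with h | h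
  · obtain ⟨⟨s, hs⟩, hs0⟩ := (IsLocalization.map_eq_zero_iff Q.asIdeal.primeCompl _ _).1 h
    exact hs (ha s hs0)
  · obtain ⟨⟨s, hs⟩, hs0⟩ := (IsLocalization.map_eq_zero_iff Q.asIdeal.primeCompl _ _).1 h
    exact hs (hb s hs0)

section Chart

variable {R' : Type u} [CommRing R'] [IsDomain R'] [IsDiscreteValuationRing R'] [Algebra R R'] [Algebra.Etale R R']
  (π : R') {Y YR U : Scheme.{u}} (fY : Y ⟶ Spec (CommRingCat.of (FractionRing R)))
  (q : YR ⟶ Spec (CommRingCat.of R)) [LocallyOfFinitePresentation q] (e : U ⟶ YR) [Etale e]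
  (g : U ⟶ Spec (CommRingCat.of (PolyNodeRing R' π))) [Etale g]
  (hcomm : g ≫ Spec.map (CommRingCat.ofHom ((algebraMap R' (PolyNodeRing R' π)).comp (algebraMap R R'))) = e ≫ q)

include hcomm in
/-- Both coordinates vanish at a nonsmooth point. -/
theorem x_mem (u : U) (hu : e u ∈ DualGr.nonsmoothPts q) :
    PolyNodeRing.x R' π ∈ (g u).asIdeal ∧ PolyNodeRing.y R' π ∈ (g u).asIdeal := by
  letI := (chart π).toRingHom.toAlgebra
  haveI := isLocalizationAway_chart π
  have hRR' : (algebraMap R R').Smooth := RingHom.smooth_algebraMap.2 inferInstance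
  have key : ∀ (g' : U ⟶ Spec (CommRingCat.of (PolyNodeRing R' π))), Etale g' →
      g' ≫ Spec.map (CommRingCat.ofHom ((algebraMap R' (PolyNodeRing R' π)).comp (algebraMap R R'))) = e ≫ q →
      PolyNodeRing.x R' π ∈ (g' u).asIdeal := by
    intro g' hg' hc
    haveI := hg'
    by_contra hx
    refine notMem_nonsmoothPts q e g' _ hc (PolyNodeRing.x R' π) (A := LaurentPolynomial R') ?_ u hx hu
    show ((chart π).toRingHom.comp ((algebraMap R' _).comp (algebraMap R R'))).Smooth
    rw [← RingHom.comp_assoc]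
    exact RingHom.Smooth.stableUnderComposition _ _ hRR' (smooth_away_x π)
  refine ⟨key g inferInstance hcomm, ?_⟩
  let σ : CommRingCat.of (PolyNodeRing R' π) ⟶ CommRingCat.of (PolyNodeRing R' π) :=
    CommRingCat.ofHom (swap π).toRingHom
  haveI : Etale (Spec.map σ) := by
    rw [HasRingHomProperty.Spec_iff (P := @Etale)]
    exact RingHom.Etale.of_bijective (Function.Involutive.bijective (swap_swap π))
  have h := key (g ≫ Spec.map σ) inferInstance (by
    rw [Category.assoc, ← Spec.map_comp, ← hcomm]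
    congr 2
    refine CommRingCat.hom_ext (RingHom.ext fun r => ?_)
    exact (swap π).commutes _)
  have h2 : swap π (PolyNodeRing.x R' π) ∈ (g u).asIdeal := h
  rwa [swap_x] at h2

include hcomm in
/-- The parameter is nonzero as the generic fibre is smooth. -/
theorem π_ne_zero [Smooth fY] (iY : Y ⟶ YR) (hiY : IsPullback iY fY q (Spec.map (CommRingCat.ofHom (algebraMap R (FractionRing R))))) (hinj : Function.Injective (algebraMap R R'))
    (u : U) (hu : e u ∈ DualGr.nonsmoothPts q) : π ≠ 0 := by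
  rintro rfl
  haveI := isOpenImmersion_jK (R := R)
  haveI : IsOpenImmersion iY := MorphismProperty.of_isPullback hiY.flip inferInstance
  obtain ⟨hx, hy⟩ := x_mem (0 : R') q e g hcomm u hu
  obtain ⟨Q, hQp, hQle, hQc, hQx, hQy⟩ := exists_origin_prime hx hy
  obtain ⟨u', -, hu'⟩ := (Flat.generalizingMap g)
    (show (⟨Q, hQp⟩ : PrimeSpectrum (PolyNodeRing R' (0 : R'))) ⤳ g u from
      (PrimeSpectrum.le_iff_specializes _ _).1 hQle)
  have hq : q (e u') = η₀ := by
    have h1 : q (e u') = (Spec.map (CommRingCat.ofHom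
        ((algebraMap R' (PolyNodeRing R' (0 : R'))).comp (algebraMap R R')))) (g u') :=
      (congrArg (fun k => k.base u') hcomm).symm
    rw [h1, hu']
    refine PrimeSpectrum.ext ?_
    show Q.comap ((algebraMap R' _).comp (algebraMap R R')) = _
    rw [← Ideal.comap_comap, hQc, η₀_asIdeal, ← RingHom.ker_eq_comap_bot]
    exact (RingHom.injective_iff_ker_eq_bot _).1 hinj
  obtain ⟨y₀, hy₀, -⟩ := exists_preimage_of_isPullback hiY (e u') (IsLocalRing.closedPoint _) hq
  have hn : NormalAt y₀ := normalAt_of_regular _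
    (VarietyLib.isRegularLocalRing_stalk_of_smooth (FractionRing R) Y fY y₀)
  have h1 : NormalAt (iY y₀) := (Et18.normal_stalk_iff_of_etale iY y₀).1 hn
  rw [hy₀] at h1
  have h2 : NormalAt (g u') := (Et18.normal_stalk_iff_of_etale g u').1
    ((Et18.normal_stalk_iff_of_etale e u').2 h1)
  rw [hu'] at h2
  exact not_isDomain_stalk ⟨Q, hQp⟩ _ _ ((NodeAlg29.x_mul_y (0 : R')).trans (map_zero _)) hQx hQy h2.1

end Chart

/-- Maximal points of the chart go to maximal points. -/
theorem isMaximalPt_snd {X XR Y YR : Scheme.{u}} [IsIntegral X] [IsIntegral Y]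
    (hX : topologicalKrullDim X = 1) (hY : topologicalKrullDim Y ≤ 1)
    (fX : X ⟶ Spec (CommRingCat.of (FractionRing R))) (fY : Y ⟶ Spec (CommRingCat.of (FractionRing R)))
    (f : X ⟶ Y) [IsFinite f] (p : XR ⟶ Spec (CommRingCat.of R))
    (iX : X ⟶ XR) (hiX : IsPullback iX fX p (Spec.map (CommRingCat.ofHom (algebraMap R (FractionRing R)))))
    (q : YR ⟶ Spec (CommRingCat.of R))
    (iY : Y ⟶ YR) (hiY : IsPullback iY fY q (Spec.map (CommRingCat.ofHom (algebraMap R (FractionRing R)))))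
    (φ : XR ⟶ YR) (hφf : iX ≫ φ = f ≫ iY) (X0 : XR.Opens) [Flat (X0.ι ≫ p)]
    {U V : Scheme.{u}} (e : U ⟶ YR) [LocallyQuasiFinite e] (pr : V ⟶ X0.toScheme) [Flat pr] (ψ : V ⟶ U)
    (hcond : pr ≫ X0.ι ≫ φ = ψ ≫ e) (ζ : V) (hζ : IsMaximalPt ζ) : IsMaximalPt (ψ ζ) := by
  haveI := isOpenImmersion_jK (R := R)
  haveI : IsOpenImmersion iX := MorphismProperty.of_isPullback hiX.flip inferInstance
  haveI : IsOpenImmersion iY := MorphismProperty.of_isPullback hiY.flip inferInstance
  intro z hz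
  have hpζ : p (pr ζ).1 = η₀ := eq_η₀_of_isMaximalPt (pr ≫ X0.ι ≫ p) hζ
  obtain ⟨a₀, ha₀, -⟩ := exists_preimage_of_isPullback hiX (pr ζ).1 (IsLocalRing.closedPoint _) hpζ
  have ha : a₀ = genericPoint X := by
    have h1 : iX (genericPoint X) ⤳ (pr ζ).1 := by
      rw [← ha₀]; exact (genericPoint_specializes a₀).map iX.continuous
    by_cases hmem : iX (genericPoint X) ∈ X0
    · obtain ⟨z', hz', hz'w⟩ := (Flat.generalizingMap pr)
        (show (⟨_, hmem⟩ : X0.toScheme) ⤳ pr ζ from X0.ι.isOpenEmbedding.isInducing.specializes_iff.1 h1)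
      rw [hζ z' hz'] at hz'w
      refine iX.isOpenEmbedding.injective ?_
      rw [ha₀]
      exact congrArg Subtype.val hz'w
    · exact absurd (h1.mem_open X0.isOpen (pr ζ).2) hmem
  have heq : e (ψ ζ) = iY (genericPoint Y) := by
    have h1 : e (ψ ζ) = (X0.ι ≫ φ) (pr ζ) := (congrArg (fun k => k.base ζ) hcond).symm
    rw [h1]
    show φ (pr ζ).1 = _
    rw [← ha₀, ha, ← map_genericPoint hX hY f]
    exact congrArg (fun k => k.base (genericPoint X)) hφf
  refine eq_of_specializes e hz ?_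
  have hez : e z ⤳ iY (genericPoint Y) := heq ▸ hz.map e.continuous
  have hqz : q (e z) = η₀ := by
    refine eq_η₀ ?_
    have h2 := hez.map q.continuous
    have h3 : q (iY (genericPoint Y)) = η₀ := by
      have h4 : q (iY (genericPoint Y)) = (Spec.map (CommRingCat.ofHom (algebraMap R (FractionRing R)))) (fY (genericPoint Y)) :=
        congrArg (fun k => k.base (genericPoint Y)) hiY.w
      rw [h4, Subsingleton.elim (fY (genericPoint Y)) (IsLocalRing.closedPoint _)]
      rfl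
    rwa [h3] at h2
  obtain ⟨z₀, hz₀, -⟩ := exists_preimage_of_isPullback hiY (e z) (IsLocalRing.closedPoint _) hqz
  rw [heq, ← hz₀]
  refine congrArg iY.base ?_
  rw [← hz₀] at hez
  exact ((iY.isOpenEmbedding.isInducing.specializes_iff.1 hez).antisymm (genericPoint_specializes z₀)).eq

/-- **The theorem.** -/
theorem notMem_of_smooth {X XR Y YR : Scheme.{u}} [IsIntegral X] [IsIntegral Y]
    (hX : topologicalKrullDim X = 1) (hY : topologicalKrullDim Y ≤ 1)
    (fX : X ⟶ Spec (CommRingCat.of (FractionRing R)))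
    (fY : Y ⟶ Spec (CommRingCat.of (FractionRing R))) [Smooth fY] (f : X ⟶ Y) [IsFinite f]
    (p : XR ⟶ Spec (CommRingCat.of R)) [LocallyOfFiniteType p] [Flat p] [LocallyOfFinitePresentation p]
    (iX : X ⟶ XR) (hiX : IsPullback iX fX p (Spec.map (CommRingCat.ofHom (algebraMap R (FractionRing R)))))
    (q : YR ⟶ Spec (CommRingCat.of R)) [LocallyOfFiniteType q] (hq : Curv2.IsNodalFamily q)
    (iY : Y ⟶ YR) (hiY : IsPullback iY fY q (Spec.map (CommRingCat.ofHom (algebraMap R (FractionRing R)))))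
    (φ : XR ⟶ YR) (hφ : φ ≫ q = p) (hφf : iX ≫ φ = f ≫ iY)
    (x : XR) (hys : q (φ x) = IsLocalRing.closedPoint R) (hy : φ x ∈ DualGr.nonsmoothPts q)
    (hfin : (φ.base ⁻¹' {φ x}).Finite) (hxs : (p.stalkMap x).hom.FormallySmooth) : False := by
  obtain ⟨ϖ, hϖ⟩ := IsDiscreteValuationRing.exists_irreducible R
  haveI : LocallyOfFinitePresentation q := hq.2.1
  obtain ⟨R', _, _, _, _, _, hirr, h, hh, U, e, _, u, hu, g, _, hcomm₀⟩ := S2227.result R ϖ hϖ YR q hq (φ x) hys
  obtain ⟨π, rfl, hπ⟩ : ∃ π : R', h = MvPolynomial.C π ∧ (π = 0 ∨ ∃ n : ℕ, π = algebraMap R R' ϖ ^ n) := by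
    rcases hh with rfl | ⟨n, rfl⟩
    · exact ⟨0, (map_zero _).symm, Or.inl rfl⟩
    · exact ⟨_, rfl, Or.inr ⟨n, rfl⟩⟩
  have hcomm : g ≫ Spec.map (CommRingCat.ofHom ((algebraMap R' (PolyNodeRing R' π)).comp (algebraMap R R'))) =
      e ≫ q := hcomm₀
  set ϖ' := algebraMap R R' ϖ with hϖ'
  have hinj : Function.Injective (algebraMap R R') := by
    rw [injective_iff_map_eq_zero]
    intro r hr
    by_contra hr0
    obtain ⟨k, v, rfl⟩ := IsDiscreteValuationRing.eq_unit_mul_pow_irreducible hr0 hϖ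
    rw [map_mul, map_pow] at hr
    rcases mul_eq_zero.1 hr with h | h
    · exact (v.isUnit.map (algebraMap R R')).ne_zero h
    · exact pow_ne_zero k hirr.ne_zero h
  obtain ⟨hx, hy'⟩ := x_mem π q e g hcomm u (hu ▸ hy)
  have hπ0 : π ≠ 0 := π_ne_zero π fY q e g hcomm iY hiY hinj u (hu ▸ hy)
  obtain ⟨n, hn⟩ := hπ.resolve_left hπ0
  let φN : R →+* PolyNodeRing R' π := (algebraMap R' (PolyNodeRing R' π)).comp (algebraMap R R')
  have hqe : ∀ z : U, q (e z) = (Spec.map (CommRingCat.ofHom φN)) (g z) := fun z =>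
    (congrArg (fun k => k.base z) hcomm).symm
  have hclosed : ∀ z : U, algebraMap R' (PolyNodeRing R' π) ϖ' ∈ (g z).asIdeal →
      q (e z) = IsLocalRing.closedPoint R := fun z hz => by
    rw [hqe]
    exact PrimeSpectrum.ext (comap_eq_maximal φN hϖ (g z).asIdeal hz)
  have hϖ'P : algebraMap R' (PolyNodeRing R' π) ϖ' ∈ (g u).asIdeal := by
    have h1 : ((Spec.map (CommRingCat.ofHom φN)) (g u)).asIdeal = IsLocalRing.maximalIdeal R := by
      rw [← hqe, hu, hys]; rfl
    have h2 : ϖ ∈ ((Spec.map (CommRingCat.ofHom φN)) (g u)).asIdeal := by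
      rw [h1]; exact hϖ.not_isUnit
    exact h2
  have hm' : ϖ' ∈ IsLocalRing.maximalIdeal R' := hirr.not_isUnit
  have hπm : π ∈ IsLocalRing.maximalIdeal R' := by
    have h1 : algebraMap R' (PolyNodeRing R' π) π ∈ (g u).asIdeal := by
      rw [← NodeAlg29.x_mul_y]; exact Ideal.mul_mem_right _ _ hx
    rw [IsLocalRing.mem_maximalIdeal, mem_nonunits_iff]
    exact fun hu' => (g u).2.ne_top (Ideal.eq_top_of_isUnit_mem _ h1 (hu'.map _))
  have hP : IsLocalRing.maximalIdeal R' ≤ (g u).asIdeal.comap (algebraMap R' _) := by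
    rw [hirr.maximalIdeal_eq, Ideal.span_le, Set.singleton_subset_iff]
    exact hϖ'P
  obtain ⟨P₁, P₂, hP₁, hP₂, h1le, h2le, h1ϖ, h2ϖ, hbr⟩ := exists_two_primes π hm' hn hπm hP hx hy'
  -- the base changed neighbourhood
  haveI : IsLocallyNoetherian YR := LocallyOfFiniteType.isLocallyNoetherian q
  haveI : IsLocallyNoetherian XR := LocallyOfFiniteType.isLocallyNoetherian p
  haveI : IsLocallyNoetherian U := LocallyOfFiniteType.isLocallyNoetherian e
  haveI : LocallyOfFiniteType (φ ≫ q) := by rw [hφ]; infer_instance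
  haveI : LocallyOfFiniteType φ := locallyOfFiniteType_of_comp φ q
  obtain ⟨V₀, hxV₀, hV₀⟩ := (SmoothLib.smooth_nhd_iff p x).2 hxs
  let X0 : XR.Opens := V₀ ⊓ φ.quasiFiniteLocus
  have hxX0 : x ∈ X0 := ⟨hxV₀, quasiFiniteAt_of_finite φ x hfin⟩
  haveI : Smooth (X0.ι ≫ p) := by
    haveI := hV₀
    rw [← XR.homOfLE_ι (show X0 ≤ V₀ from inf_le_left), Category.assoc]
    infer_instance
  let φ0 : X0.toScheme ⟶ YR := X0.ι ≫ φ
  haveI : LocallyQuasiFinite φ0 := by
    have hle : X0 ≤ φ.quasiFiniteLocus := inf_le_right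
    show LocallyQuasiFinite (X0.ι ≫ φ)
    rw [← XR.homOfLE_ι hle, Category.assoc]
    infer_instance
  haveI : LocallyQuasiFinite e := EtCard.locallyQuasiFinite_of_etale e
  let V := pullback φ0 e
  let pr : V ⟶ X0.toScheme := pullback.fst φ0 e
  let ψ : V ⟶ U := pullback.snd φ0 e
  haveI : Etale pr := MorphismProperty.pullback_fst _ _ inferInstance
  haveI : LocallyOfFiniteType φ0 := inferInstance
  haveI : LocallyOfFiniteType ψ := MorphismProperty.pullback_snd _ _ inferInstance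
  haveI : LocallyQuasiFinite ψ := MorphismProperty.pullback_snd _ _ inferInstance
  haveI : IsLocallyNoetherian V := LocallyOfFiniteType.isLocallyNoetherian ψ
  let pV : V ⟶ Spec (CommRingCat.of R) := pr ≫ X0.ι ≫ p
  haveI : Smooth pV := inferInstanceAs (Smooth (pr ≫ X0.ι ≫ p))
  have hpV : ∀ z : V, pV z = q (e (ψ z)) := fun z => by
    have h1 : pV = ψ ≫ e ≫ q := by
      show pullback.fst φ0 e ≫ X0.ι ≫ p = _
      rw [← hφ, ← Category.assoc X0.ι, pullback.condition_assoc]
    exact congrArg (fun k => k.base z) h1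
  obtain ⟨v, hv, hvu⟩ := Scheme.Pullback.exists_preimage_pullback (f := φ0) (g := e) ⟨x, hxX0⟩ u hu.symm
  haveI := isDomain π hπ0
  haveI := isIntegrallyClosed π hπ0
  have hUn : NormalAt (ψ v) := (Et18.normal_stalk_iff_of_etale g _).2 (normalAt_spec _ _)
  have hVn : NormalAt v := normalAt_of_regular _ (NeronLib.isRegularLocalRing_stalk_of_smooth pV v)
  haveI := isOpenImmersion_jK (R := R)
  haveI : IsOpenImmersion iX := MorphismProperty.of_isPullback hiX.flip inferInstance
  haveI : IsOpenImmersion iY := MorphismProperty.of_isPullback hiY.flip inferInstance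
  have hmax : ∀ ζ : V, IsMaximalPt ζ → ζ ⤳ v → IsMaximalPt (ψ ζ) :=
    fun ζ hζ _ => isMaximalPt_snd hX hY fX fY f p iX hiX q iY hiY φ hφf X0 e pr ψ
      (pullback.condition (f := φ0) (g := e)) ζ hζ
  have hv₂ : pV v = IsLocalRing.closedPoint R := by
    rw [hpV]; show q (e (pullback.snd φ0 e v)) = _; rw [hvu, hu, hys]
  -- lifts of the two branches
  have hlift : ∀ (P : Ideal (PolyNodeRing R' π)) (hPp : P.IsPrime), P ≤ (g u).asIdeal →
      algebraMap R' _ ϖ' ∈ P → ∃ w : V, w ⤳ v ∧ pV w = pV v ∧ (g (ψ w)).asIdeal = P := by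
    intro P hPp hPle hPϖ
    obtain ⟨η, hη, hgη⟩ := (Flat.generalizingMap g)
      (show (⟨P, hPp⟩ : PrimeSpectrum (PolyNodeRing R' π)) ⤳ g u from
        (PrimeSpectrum.le_iff_specializes _ _).1 hPle)
    obtain ⟨w, hw, hwη⟩ := exists_generization ψ v hVn hUn hmax (u' := η)
      (by show η ⤳ pullback.snd φ0 e v; rw [hvu]; exact hη)
    refine ⟨w, hw, ?_, by rw [hwη, hgη]⟩
    rw [hv₂, hpV]
    exact hclosed _ (by rw [hwη, hgη]; exact hPϖ)
  obtain ⟨w₁, hw₁, hw₁s, hw₁P⟩ := hlift P₁ hP₁ h1le h1ϖ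
  obtain ⟨w₂, hw₂, hw₂s, hw₂P⟩ := hlift P₂ hP₂ h2le h2ϖ
  obtain ⟨ζ, hζs, hζ⟩ := exists_branch pV v
  have hle : ∀ w, ζ ⤳ w → (g (ψ ζ)).asIdeal ≤ (g (ψ w)).asIdeal := fun w hw =>
    (PrimeSpectrum.le_iff_specializes _ _).2 ((hw.map ψ.continuous).map g.continuous)
  refine hbr (g (ψ ζ)).asIdeal (g (ψ ζ)).2 ?_ (hw₁P ▸ hle w₁ (hζ w₁ hw₁ hw₁s))
    (hw₂P ▸ hle w₂ (hζ w₂ hw₂ hw₂s))
  have h1 : q (e (ψ ζ)) = IsLocalRing.closedPoint R := by rw [← hpV, hζs, hv₂]
  rw [hqe] at h1
  have h2 : ϖ ∈ ((Spec.map (CommRingCat.ofHom φN)) (g (ψ ζ))).asIdeal := by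
    rw [h1]; exact hϖ.not_isUnit
  exact h2

end Groth.Agent.Models7.NodePreimage
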