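import Groth.Agent.NodeAlg29.Poly
import Mathlib.RingTheory.Polynomial.IsIntegral
import Mathlib.Algebra.Polynomial.Laurent

/-!
# The node ring `R[x, y]/(x y - π)` over an integrally closed domain is normal
-/

set_option autoImplicit false
set_option backward.isDefEq.respectTransparency false

universe u

open SpinCurv Groth.Agent.NodeAlg29
open scoped LaurentPolynomial

namespace Groth.Agent.Models7.NodePreimage

variable {R : Type u} [CommRing R] (π : R)

/-- The chart inverting `x`. -/
noncomputable def chart : PolyNodeRing R π →ₐ[R] R[T;T⁻¹] :=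
  Ideal.Quotient.liftₐ _ (MvPolynomial.aeval ![LaurentPolynomial.T 1, LaurentPolynomial.C π * LaurentPolynomial.T (-1)])
    (fun z hz => by
      obtain ⟨c, rfl⟩ := Ideal.mem_span_singleton'.1 hz
      rw [map_mul, map_sub, map_mul, MvPolynomial.aeval_X, MvPolynomial.aeval_X, MvPolynomial.aeval_C]
      have : LaurentPolynomial.T 1 * (LaurentPolynomial.C π * LaurentPolynomial.T (-1)) =
          algebraMap R R[T;T⁻¹] π := by
        rw [mul_left_comm, ← LaurentPolynomial.T_add, add_neg_cancel, LaurentPolynomial.T_zero, mul_one,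
          LaurentPolynomial.C_eq_algebraMap]
      simp [this])

theorem chart_x : chart π (PolyNodeRing.x R π) = LaurentPolynomial.T 1 := by
  show chart π (Ideal.Quotient.mk _ _) = _
  simp [chart]

theorem chart_y : chart π (PolyNodeRing.y R π) = LaurentPolynomial.C π * LaurentPolynomial.T (-1) := by
  show chart π (Ideal.Quotient.mk _ _) = _
  simp [chart]

theorem coeff_chart (g : PolyNodeRing R π) (j : ℤ) :
    (AddMonoidAlgebra.coeff (chart π g)) j = wt π j * (elBasis π).repr g j :=
  gU_apply π (chart π) (chart_x π) (chart_y π) g j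

theorem chart_injective [IsDomain R] (hπ : π ≠ 0) : Function.Injective (chart π) := by
  intro a b h
  refine (elBasis π).ext_elem fun j => ?_
  have := congrArg (fun f => (AddMonoidAlgebra.coeff f) j) h
  simp only [coeff_chart] at this
  exact mul_left_cancel₀ (pow_ne_zero _ hπ) this

theorem isDomain [IsDomain R] (hπ : π ≠ 0) : IsDomain (PolyNodeRing R π) :=
  (chart_injective π hπ).isDomain

/-- Exchanging the coordinates. -/
noncomputable def swap : PolyNodeRing R π →ₐ[R] PolyNodeRing R π :=
  Ideal.Quotient.liftₐ _ (MvPolynomial.aeval ![PolyNodeRing.y R π, PolyNodeRing.x R π])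
    (fun z hz => by
      obtain ⟨c, rfl⟩ := Ideal.mem_span_singleton'.1 hz
      rw [map_mul, map_sub, map_mul, MvPolynomial.aeval_X, MvPolynomial.aeval_X, MvPolynomial.aeval_C]
      simp [mul_comm (PolyNodeRing.y R π), x_mul_y])

theorem swap_x : swap π (PolyNodeRing.x R π) = PolyNodeRing.y R π := by
  show swap π (Ideal.Quotient.mk _ _) = _
  simp [swap]

theorem swap_y : swap π (PolyNodeRing.y R π) = PolyNodeRing.x R π := by
  show swap π (Ideal.Quotient.mk _ _) = _
  simp [swap]

theorem swap_swap (g : PolyNodeRing R π) : swap π (swap π g) = g := by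
  have h : (swap π).comp (swap π) = AlgHom.id R _ := by
    refine Ideal.Quotient.algHom_ext _ (MvPolynomial.algHom_ext fun i => ?_)
    fin_cases i
    · show swap π (swap π (PolyNodeRing.x R π)) = PolyNodeRing.x R π
      rw [swap_x, swap_y]
    · show swap π (swap π (PolyNodeRing.y R π)) = PolyNodeRing.y R π
      rw [swap_y, swap_x]
  exact DFunLike.congr_fun h g

theorem repr_x_pow_mul (m : ℕ) (g : PolyNodeRing R π) (j : ℤ) :
    (elBasis π).repr (PolyNodeRing.x R π ^ m * g) j =
      π ^ (min (m : ℤ) (m - j)).toNat * (elBasis π).repr g (j - m) := by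
  have hg := (elBasis π).mem_span g
  induction hg using Submodule.span_induction with
  | mem z hz =>
    obtain ⟨i, rfl⟩ := hz
    rw [elBasis_apply, elBasis_repr_el, el, ← mul_assoc, ← pow_add, monomial_eq, map_smul, elBasis_repr_el,
      Finsupp.smul_apply, Finsupp.single_apply, Finsupp.single_apply]
    by_cases h : i = j - m
    · subst h
      rw [if_pos (by omega), if_pos rfl, smul_eq_mul]
      congr 2
      omega
    · rw [if_neg (by omega), if_neg h]
      simp
  | zero => simp
  | add a b _ _ ha hb => simp [mul_add, ha, hb]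
  | smul r a _ ha =>
    rw [mul_smul_comm, map_smul, Finsupp.smul_apply, ha, map_smul, Finsupp.smul_apply, smul_eq_mul, smul_eq_mul,
      mul_left_comm]

theorem repr_y_pow_mul (m : ℕ) (g : PolyNodeRing R π) (j : ℤ) :
    (elBasis π).repr (PolyNodeRing.y R π ^ m * g) j =
      π ^ (min (m : ℤ) (m + j)).toNat * (elBasis π).repr g (j + m) := by
  have hg := (elBasis π).mem_span g
  induction hg using Submodule.span_induction with
  | mem z hz =>
    obtain ⟨i, rfl⟩ := hz
    rw [elBasis_apply, elBasis_repr_el, el, mul_left_comm, ← pow_add, monomial_eq, map_smul, elBasis_repr_el,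
      Finsupp.smul_apply, Finsupp.single_apply, Finsupp.single_apply]
    by_cases h : i = j + m
    · subst h
      rw [if_pos (by omega), if_pos rfl, smul_eq_mul]
      congr 2
      omega
    · rw [if_neg (by omega), if_neg h]
      simp
  | zero => simp
  | add a b _ _ ha hb => simp [mul_add, ha, hb]
  | smul r a _ ha =>
    rw [mul_smul_comm, map_smul, Finsupp.smul_apply, ha, map_smul, Finsupp.smul_apply, smul_eq_mul, smul_eq_mul,
      mul_left_comm]

/-- An element without negative part which becomes divisible by `x ^ m` after multiplication by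
`y ^ m` is divisible by `x ^ m`. -/
theorem x_pow_dvd [IsDomain R] (hπ : π ≠ 0) {m : ℕ} {c d : PolyNodeRing R π}
    (hc : ∀ j < 0, (elBasis π).repr c j = 0)
    (h : PolyNodeRing.y R π ^ m * c = PolyNodeRing.x R π ^ m * d) :
    ∃ e, c = PolyNodeRing.x R π ^ m * e := by
  have key : ∀ j : ℤ, 0 ≤ j → j < m →
      (elBasis π).repr c j = π ^ (m - j).toNat * (elBasis π).repr d (j - 2 * m) := by
    intro j h0 h1
    have := congrArg (fun w => (elBasis π).repr w (j - m)) h
    simp only [repr_x_pow_mul, repr_y_pow_mul] at this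
    rw [show j - (m : ℤ) + m = j by ring, show j - (m : ℤ) - m = j - 2 * m by ring,
      show (min (m : ℤ) (m - (j - m))).toNat = (m - j).toNat + j.toNat by omega,
      show (min (m : ℤ) (m + (j - m))).toNat = j.toNat by omega, pow_add] at this
    refine mul_left_cancel₀ (pow_ne_zero j.toNat hπ) ?_
    rw [this]; ring
  let e₁ : ℤ →₀ R := ((elBasis π).repr c).comapDomain (fun i => i + m) (fun a _ b _ (h : a + m = b + m) => by omega)
  let e₂ : ℤ →₀ R := ((elBasis π).repr d).comapDomain (fun i => i - m) (fun a _ b _ (h : a - m = b - m) => by omega)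
  let e : PolyNodeRing R π :=
    (elBasis π).repr.symm (e₁.filter (fun i => 0 ≤ i) + e₂.filter (fun i => -(m : ℤ) ≤ i ∧ i < 0))
  refine ⟨e, (elBasis π).ext_elem fun j => ?_⟩
  rw [repr_x_pow_mul]
  simp only [e, LinearEquiv.apply_symm_apply, Finsupp.add_apply, Finsupp.filter_apply]
  by_cases h0 : j < 0
  · rw [hc j h0, if_neg (by omega), if_neg (by omega), add_zero, mul_zero]
  by_cases h1 : j < m
  · rw [key j (by omega) h1, if_neg (by omega), if_pos (by omega), zero_add,
      show (min (m : ℤ) (m - j)).toNat = (m - j).toNat by omega]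
    simp only [e₂, Finsupp.comapDomain_apply]
    congr 2
    ring
  · rw [if_pos (by omega), if_neg (by omega), add_zero,
      show (min (m : ℤ) (m - j)).toNat = 0 by omega, pow_zero, one_mul]
    simp only [e₁, Finsupp.comapDomain_apply, sub_add_cancel]

instance [IsDomain R] [IsIntegrallyClosed R] : IsIntegrallyClosed R[T;T⁻¹] :=
  isIntegrallyClosed_of_isLocalization R[T;T⁻¹] (Submonoid.powers (Polynomial.X : Polynomial R))
    (powers_le_nonZeroDivisors_of_noZeroDivisors Polynomial.X_ne_zero)

theorem exists_laurent_eq [IsDomain R] [IsIntegrallyClosed R] (hπ : π ≠ 0) [IsDomain (PolyNodeRing R π)]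
    {K : Type u} [Field K] [Algebra (PolyNodeRing R π) K] [IsFractionRing (PolyNodeRing R π) K]
    {L : Type u} [Field L] [Algebra R[T;T⁻¹] L] [IsFractionRing R[T;T⁻¹] L]
    {z : K} (hz : IsIntegral (PolyNodeRing R π) z) (Ψ : K →+* L)
    (hΨ : ∀ w, Ψ (algebraMap (PolyNodeRing R π) K w) = algebraMap R[T;T⁻¹] L (chart π w)) :
    ∃ f, algebraMap R[T;T⁻¹] L f = Ψ z := by
  obtain ⟨p, hp, hroot⟩ := hz
  have hint : IsIntegral R[T;T⁻¹] (Ψ z) := by
    refine ⟨p.map (chart π).toRingHom, hp.map _, ?_⟩
    rw [Polynomial.eval₂_map]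
    have h := congrArg Ψ hroot
    rw [Polynomial.hom_eval₂, map_zero] at h
    have e : Ψ.comp (algebraMap (PolyNodeRing R π) K) = (algebraMap R[T;T⁻¹] L).comp (chart π).toRingHom :=
      RingHom.ext hΨ
    rw [e] at h
    exact h
  exact IsIntegrallyClosed.isIntegral_iff.1 hint

/-- An element of the fraction field which is integral becomes an element of the ring without negative
part after multiplication by a power of `x`. -/
theorem exists_x_pow_mul_eq [IsDomain R] [IsIntegrallyClosed R] (hπ : π ≠ 0) [IsDomain (PolyNodeRing R π)]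
    {K : Type u} [Field K] [Algebra (PolyNodeRing R π) K] [IsFractionRing (PolyNodeRing R π) K]
    {z : K} (hz : IsIntegral (PolyNodeRing R π) z) :
    ∃ (m : ℕ) (c : PolyNodeRing R π), (∀ j < 0, (elBasis π).repr c j = 0) ∧
      algebraMap (PolyNodeRing R π) _ (PolyNodeRing.x R π) ^ m * z = algebraMap (PolyNodeRing R π) _ c := by
  let L := FractionRing R[T;T⁻¹]
  let ψ : PolyNodeRing R π →+* L := (algebraMap R[T;T⁻¹] L).comp (chart π).toRingHom
  have hψ : Function.Injective ψ := (IsFractionRing.injective _ L).comp (chart_injective π hπ)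
  let Ψ : K →+* L := IsFractionRing.lift hψ
  obtain ⟨f, hf⟩ := exists_laurent_eq π hπ (L := L) hz Ψ (fun w => IsFractionRing.lift_algebraMap hψ w)
  obtain ⟨m, F, hF⟩ := LaurentPolynomial.exists_T_pow f
  refine ⟨m, (Polynomial.aeval (PolyNodeRing.x R π)) F, ?_, ?_⟩
  · intro j hj
    rw [Polynomial.aeval_eq_sum_range, map_sum, Finsupp.finsetSum_apply]
    refine Finset.sum_eq_zero fun i _ => ?_
    rw [← el_natCast, map_smul, elBasis_repr_el, Finsupp.smul_apply, Finsupp.single_apply, if_neg (by omega),
      smul_zero]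
  · refine Ψ.injective ?_
    rw [map_mul, map_pow, IsFractionRing.lift_algebraMap hψ, IsFractionRing.lift_algebraMap hψ, ← hf]
    show algebraMap R[T;T⁻¹] L (chart π _) ^ m * _ = algebraMap R[T;T⁻¹] L (chart π _)
    rw [← map_pow, ← map_mul, chart_x, LaurentPolynomial.T_pow, mul_one]
    congr 1
    have h2 : chart π (Polynomial.aeval (PolyNodeRing.x R π) F) = Polynomial.toLaurent F := by
      rw [← Polynomial.aeval_algHom_apply, chart_x]
      exact DFunLike.congr_fun (show Polynomial.aeval (LaurentPolynomial.T 1 : R[T;T⁻¹]) =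
        Polynomial.toLaurentAlg from Polynomial.algHom_ext (by simp)) F
    rw [h2, hF]
    ring

theorem mem_range_of_isIntegral [IsDomain R] [IsIntegrallyClosed R] (hπ : π ≠ 0) [IsDomain (PolyNodeRing R π)]
    {K : Type u} [Field K] [Algebra (PolyNodeRing R π) K] [IsFractionRing (PolyNodeRing R π) K]
    {z : K} (hz : IsIntegral (PolyNodeRing R π) z) : ∃ e, algebraMap (PolyNodeRing R π) K e = z := by
  let σ : PolyNodeRing R π ≃+* PolyNodeRing R π :=
    RingEquiv.ofRingHom (swap π).toRingHom (swap π).toRingHom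
      (RingHom.ext (swap_swap π)) (RingHom.ext (swap_swap π))
  let Sw : K ≃+* K := IsFractionRing.ringEquivOfRingEquiv σ
  have hSw : ∀ w, Sw (algebraMap _ K w) = algebraMap _ K (swap π w) := fun w =>
    IsFractionRing.ringEquivOfRingEquiv_algebraMap σ w
  have hz' : IsIntegral (PolyNodeRing R π) (Sw z) := by
    obtain ⟨p, hp, hroot⟩ := hz
    refine ⟨p.map (swap π).toRingHom, hp.map _, ?_⟩
    rw [Polynomial.eval₂_map]
    have := congrArg Sw.toRingHom hroot
    rw [Polynomial.hom_eval₂, map_zero] at this
    rw [show Sw.toRingHom.comp (algebraMap _ _) = (algebraMap _ K).comp (swap π).toRingHom from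
      RingHom.ext fun w => hSw w] at this
    exact this
  obtain ⟨m, c, hc, hcz⟩ := exists_x_pow_mul_eq π hπ hz
  obtain ⟨n, d, -, hdz⟩ := exists_x_pow_mul_eq π hπ hz'
  have hdz' : algebraMap _ K (PolyNodeRing.y R π) ^ n * z = algebraMap _ K (swap π d) := by
    refine Sw.injective ?_
    rw [map_mul, map_pow, hSw, hSw, swap_y, swap_swap]
    exact hdz
  have hc' : ∀ j < 0, (elBasis π).repr (PolyNodeRing.x R π ^ n * c) j = 0 := fun j hj => by
    rw [repr_x_pow_mul, hc _ (by omega), mul_zero]
  obtain ⟨e, he⟩ := x_pow_dvd π hπ hc' (m := m + n) (d := PolyNodeRing.y R π ^ m * swap π d) (by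
    refine IsFractionRing.injective (PolyNodeRing R π) K ?_
    simp only [map_mul, map_pow, pow_add]
    rw [← hcz, ← hdz']
    ring)
  refine ⟨e, ?_⟩
  refine mul_left_cancel₀ (a := algebraMap _ K (PolyNodeRing.x R π) ^ (m + n)) (pow_ne_zero _ ?_) ?_
  · rw [map_ne_zero_iff _ (IsFractionRing.injective (PolyNodeRing R π) K)]
    intro h0
    have := chart_x π
    rw [h0, map_zero] at this
    exact (LaurentPolynomial.isUnit_T 1).ne_zero this.symm
  · rw [← map_pow, ← map_mul, ← he, map_mul, map_pow, ← hcz, map_pow, pow_add]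
    ring

/-- **The node ring is normal.** -/
theorem isIntegrallyClosed [IsDomain R] [IsIntegrallyClosed R] (hπ : π ≠ 0) :
    IsIntegrallyClosed (PolyNodeRing R π) := by
  have := isDomain π hπ
  exact (isIntegrallyClosed_iff (FractionRing (PolyNodeRing R π))).2 fun {z} hz =>
    mem_range_of_isIntegral π hπ hz

end Groth.Agent.Models7.NodePreimage
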