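import Groth.Agent.Models7.NodePreimage.NodeNormal
import Groth.Agent.AlgSpLib.SmoothSource
import Mathlib.RingTheory.Etale.Basic
import Mathlib.RingTheory.DiscreteValuationRing.Basic

/-!
# Primes of the node ring over the closed point
-/

set_option autoImplicit false
set_option backward.isDefEq.respectTransparency false

universe u

open SpinCurv Groth.Agent.NodeAlg29
open scoped LaurentPolynomial Polynomial

namespace Groth.Agent.Models7.NodePreimage

variable {R : Type u} [CommRing R] (π : R)

/-- The node ring with `x` inverted is the ring of Laurent polynomials. -/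
theorem isLocalizationAway_chart :
    letI := (chart π).toRingHom.toAlgebra
    IsLocalization.Away (PolyNodeRing.x R π) R[T;T⁻¹] := by
  letI := (chart π).toRingHom.toAlgebra
  have halg : ∀ w, algebraMap (PolyNodeRing R π) R[T;T⁻¹] w = chart π w := fun _ => rfl
  refine IsLocalization.Away.mk (PolyNodeRing.x R π) ?_ (fun f => ?_) fun a b h => ?_
  · rw [halg, chart_x]; exact LaurentPolynomial.isUnit_T 1
  · obtain ⟨m, F, hF⟩ := LaurentPolynomial.exists_T_pow f
    refine ⟨m, Polynomial.aeval (PolyNodeRing.x R π) F, ?_⟩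
    rw [halg, halg, chart_x, LaurentPolynomial.T_pow, mul_one, ← Polynomial.aeval_algHom_apply, chart_x,
      ← hF]
    exact (DFunLike.congr_fun (show Polynomial.aeval (LaurentPolynomial.T 1 : R[T;T⁻¹]) =
      Polynomial.toLaurentAlg from Polynomial.algHom_ext (by simp)) F).symm
  · let s := ((elBasis π).repr a).support ∪ ((elBasis π).repr b).support
    refine ⟨s.sup fun i => (-i).toNat, (elBasis π).ext_elem fun j => ?_⟩
    set k := s.sup fun i => (-i).toNat with hk
    rw [repr_x_pow_mul, repr_x_pow_mul]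
    by_cases hs : j - k ∈ s
    · have hle : (-(j - k)).toNat ≤ k := Finset.le_sup (f := fun i => (-i).toNat) hs
      have hc := coeff_chart π a (j - k)
      rw [show chart π a = chart π b from h, coeff_chart, wt] at hc
      rw [eq_comm] at hc
      rwa [show (min (k : ℤ) (k - j)).toNat = (-(j - k)).toNat by omega]
    · simp only [s, Finset.notMem_union, Finsupp.notMem_support_iff] at hs
      rw [hs.1, hs.2]

/-- The node ring with `x` inverted is smooth over the base. -/
theorem smooth_away_x :
    (((chart π).toRingHom).comp (algebraMap R (PolyNodeRing R π))).Smooth := by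
  rw [show ((chart π).toRingHom).comp (algebraMap R (PolyNodeRing R π)) = algebraMap R R[T;T⁻¹] from
    (chart π).comp_algebraMap, RingHom.smooth_algebraMap]
  haveI : IsScalarTower R (Polynomial R) R[T;T⁻¹] := IsScalarTower.of_algebraMap_eq fun r => by
    simp [LaurentPolynomial.algebraMap_eq_toLaurent, ← LaurentPolynomial.C_eq_algebraMap]
  haveI : Algebra.Etale (Polynomial R) R[T;T⁻¹] :=
    @Algebra.Etale.of_isLocalizationAway (Polynomial R) R[T;T⁻¹] _ _ _ Polynomial.X LaurentPolynomial.isLocalization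
  haveI h1 : Algebra.Smooth (Polynomial R) R[T;T⁻¹] := inferInstance
  haveI h2 : Algebra.Smooth R (Polynomial R) := ⟨inferInstance, inferInstance⟩
  exact Algebra.Smooth.comp R (Polynomial R) R[T;T⁻¹]

/-- The evaluation at the origin. -/
noncomputable def origin : PolyNodeRing R (0 : R) →ₐ[R] R :=
  Ideal.Quotient.liftₐ _ (MvPolynomial.aeval fun _ => (0 : R)) (fun z hz => by
    obtain ⟨c, rfl⟩ := Ideal.mem_span_singleton'.1 hz
    simp)

/-- An element of a prime containing `x` and `y` has constant term in it. -/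
theorem sub_algebraMap_mem {P : Ideal (PolyNodeRing R π)} (hx : PolyNodeRing.x R π ∈ P)
    (hy : PolyNodeRing.y R π ∈ P) (f : MvPolynomial (Fin 2) R) :
    Ideal.Quotient.mk _ f - algebraMap R (PolyNodeRing R π) (MvPolynomial.constantCoeff f) ∈ P := by
  induction f using MvPolynomial.induction_on with
  | C a =>
    rw [MvPolynomial.constantCoeff_C]
    rw [show Ideal.Quotient.mk _ (MvPolynomial.C a) = algebraMap R (PolyNodeRing R π) a from rfl, sub_self]
    exact P.zero_mem
  | add a b ha hb =>
    have := P.add_mem ha hb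
    simpa [sub_add_sub_comm] using this
  | mul_X f i hf =>
    rw [map_mul, map_mul, MvPolynomial.constantCoeff_X, mul_zero, map_zero, sub_zero]
    fin_cases i
    · exact P.mul_mem_left _ hx
    · exact P.mul_mem_left _ hy

/-- Over `π = 0`, the prime of the origin of the node lies in every prime containing `x` and `y`. -/
theorem exists_origin_prime [IsDomain R] {P : Ideal (PolyNodeRing R (0 : R))}
    (hx : PolyNodeRing.x R (0 : R) ∈ P) (hy : PolyNodeRing.y R (0 : R) ∈ P) :
    ∃ Q : Ideal (PolyNodeRing R (0 : R)), Q.IsPrime ∧ Q ≤ P ∧ Q.comap (algebraMap R _) = ⊥ ∧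
      (∀ s, s * PolyNodeRing.x R (0 : R) = 0 → s ∈ Q) ∧ (∀ s, s * PolyNodeRing.y R (0 : R) = 0 → s ∈ Q) := by
  refine ⟨RingHom.ker (origin (R := R)).toRingHom, RingHom.ker_isPrime _, ?_, ?_, ?_⟩
  · intro g hg
    obtain ⟨f, rfl⟩ := Ideal.Quotient.mk_surjective g
    have h0 : MvPolynomial.constantCoeff f = 0 := by
      have : origin (Ideal.Quotient.mk _ f) = 0 := hg
      simpa [origin, MvPolynomial.aeval_eq_eval₂Hom, MvPolynomial.eval₂Hom_zero'_apply] using this
    simpa [h0] using sub_algebraMap_mem (0 : R) hx hy f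
  · refine eq_bot_iff.2 fun r hr => ?_
    have : origin (algebraMap R (PolyNodeRing R (0 : R)) r) = 0 := hr
    simpa using this
  · -- map to the two axes
    have key : ∀ i : Fin 2, ∀ s : PolyNodeRing R (0 : R), s * Ideal.Quotient.mk _ (MvPolynomial.X i) = 0 →
        origin s = 0 := by
      intro i s hs
      obtain ⟨f, rfl⟩ := Ideal.Quotient.mk_surjective s
      rw [← map_mul, Ideal.Quotient.eq_zero_iff_mem, Ideal.mem_span_singleton'] at hs
      obtain ⟨c, hc⟩ := hs
      let v : Fin 2 → R[X] := fun j => if j = i then Polynomial.X else 0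
      have h := congrArg (MvPolynomial.aeval (R := R) v) hc
      have hv : v 0 * v 1 = 0 := by fin_cases i <;> simp [v]
      simp only [map_mul, map_sub, MvPolynomial.aeval_X, MvPolynomial.aeval_C, map_zero, sub_zero, hv,
        mul_zero] at h
      have hf : MvPolynomial.aeval (R := R) v f = 0 := by
        rcases mul_eq_zero.1 h.symm with h' | h'
        · exact h'
        · simp [v] at h'
      have h2 := congrArg (Polynomial.aeval (0 : R)) hf
      rw [← AlgHom.comp_apply, MvPolynomial.comp_aeval, map_zero] at h2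
      show MvPolynomial.aeval (fun _ => (0 : R)) f = 0
      convert h2 using 3
      funext j
      by_cases hj : j = i <;> simp [v, hj]
    exact ⟨key 0, key 1⟩

section Dvr

variable [IsLocalRing R]

/-- The branch through `x = 0` at the closed point. -/
noncomputable def branch {π : R} (hπ : π ∈ IsLocalRing.maximalIdeal R) :
    PolyNodeRing R π →+* (IsLocalRing.ResidueField R)[X] :=
  Ideal.Quotient.lift _
    (MvPolynomial.eval₂Hom (Polynomial.C.comp (IsLocalRing.residue R)) ![0, Polynomial.X])
    (fun z hz => by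
      obtain ⟨c, rfl⟩ := Ideal.mem_span_singleton'.1 hz
      simp [(IsLocalRing.residue_eq_zero_iff π).2 hπ])

/-- The prime of the branch `x = 0` of the closed fibre. -/
theorem exists_branch_prime {ϖ : R} (hϖ : ϖ ∈ IsLocalRing.maximalIdeal R) (hπ : π ∈ IsLocalRing.maximalIdeal R)
    {P : Ideal (PolyNodeRing R π)} (hP : IsLocalRing.maximalIdeal R ≤ P.comap (algebraMap R _))
    (hx : PolyNodeRing.x R π ∈ P) (hy : PolyNodeRing.y R π ∈ P) :
    ∃ Q : Ideal (PolyNodeRing R π), Q.IsPrime ∧ Q ≤ P ∧ algebraMap R _ ϖ ∈ Q ∧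
      PolyNodeRing.x R π ∈ Q ∧ PolyNodeRing.y R π ∉ Q := by
  refine ⟨RingHom.ker (branch hπ), RingHom.ker_isPrime _, fun g hg => ?_, ?_, ?_, fun h => ?_⟩
  · obtain ⟨f, rfl⟩ := Ideal.Quotient.mk_surjective g
    have h0 : MvPolynomial.constantCoeff f ∈ IsLocalRing.maximalIdeal R := by
      have := congrArg (Polynomial.coeff · 0) (hg : branch hπ (Ideal.Quotient.mk _ f) = 0)
      rw [← IsLocalRing.residue_eq_zero_iff]
      have hcomp : ((Polynomial.constantCoeff).comp (MvPolynomial.eval₂Hom
          (Polynomial.C.comp (IsLocalRing.residue R)) ![0, Polynomial.X])) =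
          (IsLocalRing.residue R).comp MvPolynomial.constantCoeff := by
        refine MvPolynomial.ringHom_ext (fun r => by simp) fun i => ?_
        fin_cases i <;> simp
      rw [← RingHom.comp_apply, ← hcomp, RingHom.comp_apply]
      exact this
    have := P.add_mem (sub_algebraMap_mem π hx hy f) (hP h0)
    simpa using this
  · show branch hπ (Ideal.Quotient.mk _ (MvPolynomial.C ϖ)) = 0
    simp [branch, (IsLocalRing.residue_eq_zero_iff ϖ).2 hϖ]
  · show branch hπ (Ideal.Quotient.mk _ (MvPolynomial.X 0)) = 0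
    simp [branch]
  · have : branch hπ (Ideal.Quotient.mk _ (MvPolynomial.X 1)) = 0 := h
    simp [branch] at this

/-- **Two branches.** Primes below the origin of the closed fibre, over the closed point, with no common
generization over the closed point. -/
theorem exists_two_primes {ϖ : R} (hϖ : ϖ ∈ IsLocalRing.maximalIdeal R) {n : ℕ} (hπ : π = ϖ ^ n)
    (hπm : π ∈ IsLocalRing.maximalIdeal R)
    {P : Ideal (PolyNodeRing R π)} [P.IsPrime] (hP : IsLocalRing.maximalIdeal R ≤ P.comap (algebraMap R _))
    (hx : PolyNodeRing.x R π ∈ P) (hy : PolyNodeRing.y R π ∈ P) :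
    ∃ P₁ P₂ : Ideal (PolyNodeRing R π), P₁.IsPrime ∧ P₂.IsPrime ∧ P₁ ≤ P ∧ P₂ ≤ P ∧
      algebraMap R _ ϖ ∈ P₁ ∧ algebraMap R _ ϖ ∈ P₂ ∧
      ∀ Q : Ideal (PolyNodeRing R π), Q.IsPrime → algebraMap R _ ϖ ∈ Q → Q ≤ P₁ → Q ≤ P₂ → False := by
  obtain ⟨P₁, h1, h1P, h1ϖ, h1x, h1y⟩ := exists_branch_prime π hϖ hπm hP hx hy
  obtain ⟨P₂, h2, h2P, h2ϖ, h2x, h2y⟩ := exists_branch_prime π hϖ hπm
    (P := P.comap (swap π).toRingHom)
    (fun r hr => by
      show swap π (algebraMap R _ r) ∈ P
      rw [AlgHom.commutes]; exact hP hr)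
    (by show swap π _ ∈ P; rw [swap_x]; exact hy) (by show swap π _ ∈ P; rw [swap_y]; exact hx)
  refine ⟨P₁, P₂.comap (swap π).toRingHom, h1, Ideal.IsPrime.comap _, h1P, fun g hg => ?_, h1ϖ, ?_,
    fun Q hQ hϖQ hQ1 hQ2 => ?_⟩
  · have := h2P hg
    simpa [Ideal.mem_comap, swap_swap] using this
  · show swap π (algebraMap R _ ϖ) ∈ P₂
    rw [AlgHom.commutes]; exact h2ϖ
  · have hmem : PolyNodeRing.x R π * PolyNodeRing.y R π ∈ Q := by
      rw [x_mul_y, show algebraMap R (PolyNodeRing R π) π = algebraMap R (PolyNodeRing R π) ϖ ^ n from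
        (congrArg _ hπ).trans (map_pow _ _ _)]
      rcases Nat.eq_zero_or_pos n with hn | hn
      · exfalso
        rw [hπ, hn, pow_zero] at hπm
        exact (IsLocalRing.maximalIdeal.isMaximal R).ne_top ((Ideal.eq_top_iff_one _).2 hπm)
      · exact Ideal.pow_mem_of_mem Q hϖQ n hn
    rcases hQ.mem_or_mem hmem with h | h
    · refine h2y ?_
      have := hQ2 h
      rwa [Ideal.mem_comap, AlgHom.toRingHom_eq_coe, RingHom.coe_coe, swap_x] at this
    · exact h1y (hQ1 h)

end Dvr

end Groth.Agent.Models7.NodePreimage
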